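import Mathlib.Geometry.RingedSpace.SheafedSpace
import Mathlib.AlgebraicGeometry.Scheme

/-!
# A criterion for coequalizers of ringed spaces
-/

universe u

set_option autoImplicit false
set_option backward.isDefEq.respectTransparency false

open CategoryTheory Limits AlgebraicGeometry Opposite TopologicalSpace

namespace Groth.Agent.RSQuot19

abbrev PSpace := PresheafedSpace.{u, u + 1, u} CommRingCat.{u}

variable {R X Y : PSpace.{u}} {a b : R ⟶ X} {q : X ⟶ Y}

theorem comp_app_eq (w : a ≫ q = b ≫ q) (W : Opens Y.carrier) :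
    op ((Opens.map a.base).obj ((Opens.map q.base).obj W)) =
      op ((Opens.map b.base).obj ((Opens.map q.base).obj W)) :=
  congrArg (fun k => op ((Opens.map k).obj W)) (congrArg PresheafedSpace.Hom.base w : a.base ≫ q.base = b.base ≫ q.base)

theorem map_loop {T : TopCat.{u}} (F : T.Presheaf CommRingCat.{u}) {U V : (Opens T)ᵒᵖ} (i : U ⟶ V)
    (j : V ⟶ U) (x : F.obj U) : F.map j (F.map i x) = x := by
  rw [← CommRingCat.comp_apply, ← Functor.map_comp, Subsingleton.elim (i ≫ j) (𝟙 _), CategoryTheory.Functor.map_id,
    CommRingCat.id_apply]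

/-- A map of ringed spaces which is topologically the quotient by the relation and whose sections are
the equalizers of sections is the coequalizer. -/
theorem exists_unique_desc (w : a ≫ q = b ≫ q) (hq : Topology.IsQuotientMap q.base)
    (hfib : ∀ x y, q.base x = q.base y → ∃ r, a.base r = x ∧ b.base r = y)
    (hinj : ∀ W : Opens Y.carrier, Function.Injective (q.c.app (op W)))
    (hex : ∀ (W : Opens Y.carrier) (s : X.presheaf.obj (op ((Opens.map q.base).obj W))),
      R.presheaf.map (eqToHom (comp_app_eq w W)) (a.c.app (op ((Opens.map q.base).obj W)) s) =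
        b.c.app (op ((Opens.map q.base).obj W)) s → ∃ t, q.c.app (op W) t = s)
    {Z : PSpace.{u}} (k : X ⟶ Z) (hk : a ≫ k = b ≫ k) : ∃! d : Y ⟶ Z, q ≫ d = k := by
  classical
  have hbase : ∀ r, k.base (a.base r) = k.base (b.base r) := fun r =>
    congrArg (fun g : R ⟶ Z => g.base r) hk
  obtain ⟨m, hm⟩ : ∃ m : Y.carrier ⟶ Z.carrier, q.base ≫ m = k.base := by
   refine ⟨TopCat.ofHom
    ⟨fun y => k.base (Function.surjInv hq.surjective y), by
      refine hq.continuous_iff.2 ?_
      refine k.base.hom.continuous.congr fun x => ?_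
      obtain ⟨r, h₁, h₂⟩ := hfib x (Function.surjInv hq.surjective (q.base x)) (Function.surjInv_eq hq.surjective _).symm
      show k.base x = k.base (Function.surjInv hq.surjective (q.base x))
      rw [← h₁, hbase, h₂, h₁]⟩, ?_⟩
   ext x
   obtain ⟨r, h₁, h₂⟩ := hfib x (Function.surjInv hq.surjective (q.base x)) (Function.surjInv_eq hq.surjective _).symm
   show k.base (Function.surjInv hq.surjective (q.base x)) = k.base x
   rw [← h₁, hbase, h₂, h₁]
  obtain ⟨kb, kc⟩ := k
  subst hm
  have hlift : ∀ (U : (Opens Z.carrier)ᵒᵖ) (z : Z.presheaf.obj U),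
      ∃ t, q.c.app (op ((Opens.map m).obj U.unop)) t = kc.app U z := fun U z => by
    refine hex _ _ ?_
    have e := congr($(PresheafedSpace.congr_app hk U) z)
    rw [PresheafedSpace.comp_c_app, PresheafedSpace.comp_c_app] at e
    simp only [CommRingCat.comp_apply] at e
    exact (congrArg (fun y => R.presheaf.map (eqToHom (comp_app_eq w ((Opens.map m).obj U.unop))) y) e).trans
      (map_loop R.presheaf _ _ _)
  choose f hf using hlift
  let c : Z.presheaf ⟶ m _* Y.presheaf :=
    { app := fun U => CommRingCat.ofHom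
        { toFun := f U
          map_one' := hinj _ ((hf U 1).trans ((map_one _).trans (map_one _).symm))
          map_zero' := hinj _ ((hf U 0).trans ((map_zero _).trans (map_zero _).symm))
          map_add' := fun z z' => hinj _ ((hf U _).trans (by rw [map_add, map_add, hf, hf]))
          map_mul' := fun z z' => hinj _ ((hf U _).trans (by rw [map_mul, map_mul, hf, hf])) }
      naturality := fun {U V} i => by
        ext z
        refine hinj ((Opens.map m).obj V.unop) ((hf V _).trans ?_)
        have e₁ := congr($(kc.naturality i) z)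
        have e₂ := congr($(q.c.naturality ((Opens.map m).map i.unop).op) (f U z))
        exact e₁.trans ((congrArg _ (hf U z).symm).trans e₂.symm) }
  have hfac : q ≫ (⟨m, c⟩ : Y ⟶ Z) = ⟨q.base ≫ m, kc⟩ := by
    refine PresheafedSpace.ext _ _ rfl (NatTrans.ext (funext fun U => ?_))
    ext z
    simp only [eqToHom_refl, Functor.whiskerRight_id', Category.comp_id]
    exact hf U z
  refine ⟨⟨m, c⟩, hfac, fun d hd => ?_⟩
  obtain ⟨db, dc⟩ := d
  have hb : db = m := by
    ext y
    obtain ⟨x, rfl⟩ := hq.surjective y
    exact congrArg (fun g : X ⟶ Z => g.base x) (hd.trans hfac.symm)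
  subst hb
  refine PresheafedSpace.ext _ _ rfl (NatTrans.ext (funext fun U => ?_))
  ext z
  simp only [eqToHom_refl, Functor.whiskerRight_id', Category.comp_id]
  refine hinj ((Opens.map db).obj U.unop) (Eq.trans ?_ (hf U z).symm)
  have e := congr($(PresheafedSpace.congr_app hd U) z)
  simpa using! e

/-- The same in sheafed spaces. -/
theorem nonempty_isColimit {R X Y : SheafedSpace.{u + 1, u, u} CommRingCat.{u}} {a b : R ⟶ X} {q : X ⟶ Y}
    (w : a ≫ q = b ≫ q) (hq : Topology.IsQuotientMap q.hom.base)
    (hfib : ∀ x y, q.hom.base x = q.hom.base y → ∃ r, a.hom.base r = x ∧ b.hom.base r = y)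
    (hinj : ∀ W : Opens Y.carrier, Function.Injective (q.hom.c.app (op W)))
    (hex : ∀ (W : Opens Y.carrier) (s : X.presheaf.obj (op ((Opens.map q.hom.base).obj W)))
      (e : op ((Opens.map a.hom.base).obj ((Opens.map q.hom.base).obj W)) =
        op ((Opens.map b.hom.base).obj ((Opens.map q.hom.base).obj W))),
      R.presheaf.map (eqToHom e) (a.hom.c.app (op ((Opens.map q.hom.base).obj W)) s) =
        b.hom.c.app (op ((Opens.map q.hom.base).obj W)) s → ∃ t, q.hom.c.app (op W) t = s) :
    Nonempty (IsColimit (Cofork.ofπ q w)) := by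
  have w' : a.hom ≫ q.hom = b.hom ≫ q.hom := congrArg InducedCategory.Hom.hom w
  have key := fun (s : Cofork (X := R) (Y := X) a b) => exists_unique_desc (a := a.hom) (b := b.hom) (q := q.hom) (Z := s.pt.toPresheafedSpace) w' hq hfib hinj
    (fun W t h => hex W t _ h) s.π.hom
    (congrArg InducedCategory.Hom.hom s.condition : (a ≫ s.π).hom = (b ≫ s.π).hom)
  choose d hd hu using key
  exact ⟨Cofork.IsColimit.mk _ (fun s => InducedCategory.homMk (d s))
    (fun s => InducedCategory.Hom.ext (hd s))
    (fun s m hm => InducedCategory.Hom.ext (hu s m.hom (congrArg InducedCategory.Hom.hom hm)))⟩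

end Groth.Agent.RSQuot19
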