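import Groth.Agent.Lib.RSQuot19.Coeq
import Mathlib.AlgebraicGeometry.Morphisms.Affine
import Mathlib.AlgebraicGeometry.Morphisms.Separated
import Mathlib.AlgebraicGeometry.Properties

/-!
# Coequalizers of schemes affine over the quotient
-/

universe u

set_option autoImplicit false
set_option backward.isDefEq.respectTransparency.types false

open CategoryTheory Limits AlgebraicGeometry Opposite TopologicalSpace

namespace Groth.Agent.RSQuot19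

variable {R X Y : Scheme.{u}} (p₁ p₂ : R ⟶ X) (q : X ⟶ Y)

/-- Sections of `Y` over `W` are the sections of `X` equalized by the two maps. -/
structure ExactOn (W : Y.Opens) : Prop where
  inj : Function.Injective (q.app W)
  surj : ∀ (T : R.Opens) (h₁ : T = p₁ ⁻¹ᵁ q ⁻¹ᵁ W) (h₂ : T = p₂ ⁻¹ᵁ q ⁻¹ᵁ W) (s : Γ(X, q ⁻¹ᵁ W)),
    p₁.appLE (q ⁻¹ᵁ W) T h₁.le s = p₂.appLE (q ⁻¹ᵁ W) T h₂.le s → ∃ t, q.app W t = s

variable {p₁ p₂ q}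

theorem app_res {W W' : Y.Opens} (h : W' ≤ W) (t : Γ(Y, W)) :
    q.app W' (Y.presheaf.map (homOfLE h).op t) = X.presheaf.map (homOfLE (q.preimage_mono h)).op (q.app W t) :=
  congr(($(q.naturality (homOfLE h).op)).hom t)

theorem appLE_res (m : R ⟶ X) {V V' : X.Opens} {T T' : R.Opens} (hV : V' ≤ V) (hT : T' ≤ T) (e : T ≤ m ⁻¹ᵁ V)
    (e' : T' ≤ m ⁻¹ᵁ V') (s : Γ(X, V)) :
    m.appLE V' T' e' (X.presheaf.map (homOfLE hV).op s) = R.presheaf.map (homOfLE hT).op (m.appLE V T e s) := by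
  rw [← CommRingCat.comp_apply, Scheme.Hom.map_appLE, ← CommRingCat.comp_apply, Scheme.Hom.appLE_map]

variable (hw : p₁ ≫ q = p₂ ≫ q)
include hw

theorem preimage_eq (W : Y.Opens) : p₁ ⁻¹ᵁ q ⁻¹ᵁ W = p₂ ⁻¹ᵁ q ⁻¹ᵁ W := by
  rw [← Scheme.Hom.comp_preimage, ← Scheme.Hom.comp_preimage, hw]

/-- Exactness passes to basic opens of an affine open. -/
theorem ExactOn.basicOpen [IsAffineHom q] [IsAffineHom (p₁ ≫ q)] {V : Y.Opens} (hV : IsAffineOpen V)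
    (h : ExactOn p₁ p₂ q V) (c : Γ(Y, V)) : ExactOn p₁ p₂ q (Y.basicOpen c) := by
  have hle : q ⁻¹ᵁ Y.basicOpen c ≤ q ⁻¹ᵁ V := q.preimage_mono (Y.basicOpen_le c)
  have hXV : IsAffineOpen (q ⁻¹ᵁ V) := hV.preimage q
  have hRV : IsAffineOpen (p₁ ⁻¹ᵁ q ⁻¹ᵁ V) := hV.preimage (p₁ ≫ q)
  letI : Algebra Γ(X, q ⁻¹ᵁ V) Γ(X, q ⁻¹ᵁ Y.basicOpen c) := (X.presheaf.map (homOfLE hle).op).hom.toAlgebra
  haveI : IsLocalization.Away (q.app V c) Γ(X, q ⁻¹ᵁ Y.basicOpen c) :=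
    hXV.isLocalization_of_eq_basicOpen (q.app V c) (homOfLE hle) (Scheme.preimage_basicOpen _ _)
  letI : Algebra Γ(Y, V) Γ(Y, Y.basicOpen c) := (Y.presheaf.map (homOfLE (Y.basicOpen_le c)).op).hom.toAlgebra
  haveI : IsLocalization.Away c Γ(Y, Y.basicOpen c) := hV.isLocalization_basicOpen c
  have key : ∀ a : Γ(Y, V), q.app (Y.basicOpen c) (algebraMap Γ(Y, V) Γ(Y, Y.basicOpen c) a) =
      algebraMap Γ(X, q ⁻¹ᵁ V) Γ(X, q ⁻¹ᵁ Y.basicOpen c) (q.app V a) := fun a => app_res _ a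
  refine ⟨fun a b hab => ?_, fun T h₁ h₂ s hs => ?_⟩
  · obtain ⟨⟨a', _, n, rfl⟩, ha⟩ := IsLocalization.surj (Submonoid.powers c) a
    obtain ⟨⟨b', _, m, rfl⟩, hb⟩ := IsLocalization.surj (Submonoid.powers c) b
    dsimp only at ha hb
    have e : q.app (Y.basicOpen c) (algebraMap Γ(Y, V) Γ(Y, Y.basicOpen c) (c ^ m * a')) =
        q.app (Y.basicOpen c) (algebraMap Γ(Y, V) Γ(Y, Y.basicOpen c) (c ^ n * b')) := by
      rw [map_mul, map_mul, map_mul, map_mul, ← ha, ← hb, map_mul, map_mul, hab]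
      ring
    rw [key, key] at e
    obtain ⟨⟨_, k, rfl⟩, hk⟩ := (IsLocalization.eq_iff_exists (Submonoid.powers (q.app V c)) _).1 e
    dsimp only at hk
    rw [← map_pow, ← map_mul, ← map_mul] at hk
    have hk' := congrArg (algebraMap Γ(Y, V) Γ(Y, Y.basicOpen c)) (h.inj hk)
    simp only [map_mul, ← ha, ← hb] at hk'
    have hu : ∀ j : ℕ, IsUnit (algebraMap Γ(Y, V) Γ(Y, Y.basicOpen c) (c ^ j)) := fun j =>
      IsLocalization.map_units Γ(Y, Y.basicOpen c) (⟨c ^ j, j, rfl⟩ : Submonoid.powers c)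
    refine (((hu k).mul (hu m)).mul (hu n)).mul_left_cancel ?_
    linear_combination hk'
  · have hT : T ≤ p₁ ⁻¹ᵁ q ⁻¹ᵁ V := h₁.le.trans (p₁.preimage_mono hle)
    let cR : Γ(R, p₁ ⁻¹ᵁ q ⁻¹ᵁ V) := p₁.appLE (q ⁻¹ᵁ V) _ le_rfl (q.app V c)
    have hc₂ : ∀ (e : p₁ ⁻¹ᵁ q ⁻¹ᵁ V ≤ p₂ ⁻¹ᵁ q ⁻¹ᵁ V), p₂.appLE (q ⁻¹ᵁ V) _ e (q.app V c) = cR := fun e => by
      simp only [cR, ← CommRingCat.comp_apply, Scheme.Hom.app_eq_appLE, Scheme.Hom.appLE_comp_appLE, hw]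
    letI : Algebra Γ(R, p₁ ⁻¹ᵁ q ⁻¹ᵁ V) Γ(R, T) := (R.presheaf.map (homOfLE hT).op).hom.toAlgebra
    haveI : IsLocalization.Away cR Γ(R, T) := hRV.isLocalization_of_eq_basicOpen cR (homOfLE hT) (by
      rw [h₁, Scheme.preimage_basicOpen, Scheme.preimage_basicOpen, Scheme.Hom.app_eq_appLE])
    obtain ⟨⟨s', _, n, rfl⟩, hs'⟩ := IsLocalization.surj (Submonoid.powers (q.app V c)) s
    dsimp only at hs'
    have hres : ∀ (m : R ⟶ X) (e : p₁ ⁻¹ᵁ q ⁻¹ᵁ V ≤ m ⁻¹ᵁ q ⁻¹ᵁ V) (e' : T ≤ m ⁻¹ᵁ q ⁻¹ᵁ Y.basicOpen c) (z : Γ(X, q ⁻¹ᵁ V)),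
        m.appLE _ T e' (algebraMap Γ(X, q ⁻¹ᵁ V) Γ(X, q ⁻¹ᵁ Y.basicOpen c) z) =
          algebraMap Γ(R, p₁ ⁻¹ᵁ q ⁻¹ᵁ V) Γ(R, T) (m.appLE _ _ e z) := fun m e e' z => appLE_res m hle hT e e' z
    have e2 : p₁ ⁻¹ᵁ q ⁻¹ᵁ V ≤ p₂ ⁻¹ᵁ q ⁻¹ᵁ V := (preimage_eq hw V).le
    have hcp : p₁.appLE (q ⁻¹ᵁ Y.basicOpen c) T h₁.le (algebraMap Γ(X, q ⁻¹ᵁ V) _ (q.app V c ^ n)) =
        p₂.appLE (q ⁻¹ᵁ Y.basicOpen c) T h₂.le (algebraMap Γ(X, q ⁻¹ᵁ V) _ (q.app V c ^ n)) := by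
      rw [hres p₁ le_rfl, hres p₂ e2, map_pow (p₁.appLE (q ⁻¹ᵁ V) _ le_rfl).hom, map_pow (p₂.appLE (q ⁻¹ᵁ V) _ e2).hom, hc₂]
    have e3 : algebraMap Γ(R, p₁ ⁻¹ᵁ q ⁻¹ᵁ V) Γ(R, T) (p₁.appLE _ _ le_rfl s') =
        algebraMap Γ(R, p₁ ⁻¹ᵁ q ⁻¹ᵁ V) Γ(R, T) (p₂.appLE _ _ e2 s') := by
      rw [← hres p₁ le_rfl h₁.le, ← hres p₂ e2 h₂.le, ← hs', map_mul, map_mul, hs, hcp]
    obtain ⟨⟨_, k, rfl⟩, hk⟩ := (IsLocalization.eq_iff_exists (Submonoid.powers cR) _).1 e3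
    dsimp only at hk
    obtain ⟨t, ht⟩ := h.surj _ rfl (preimage_eq hw V) (q.app V c ^ k * s') (by
      rw [map_mul, map_mul, map_pow, map_pow, hc₂]; exact hk)
    refine ⟨IsLocalization.mk' Γ(Y, Y.basicOpen c) t (⟨c ^ (k + n), k + n, rfl⟩ : Submonoid.powers c), ?_⟩
    have hu : IsUnit (algebraMap Γ(X, q ⁻¹ᵁ V) Γ(X, q ⁻¹ᵁ Y.basicOpen c) (q.app V c ^ (k + n))) :=
      IsLocalization.map_units _ (⟨_, k + n, rfl⟩ : Submonoid.powers (q.app V c))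
    refine hu.mul_left_cancel ?_
    have e4 := congrArg (q.app (Y.basicOpen c))
      (IsLocalization.mk'_spec' Γ(Y, Y.basicOpen c) t (⟨c ^ (k + n), k + n, rfl⟩ : Submonoid.powers c))
    rw [map_mul, key, key, map_pow, ht] at e4
    rw [e4, map_mul, ← hs', pow_add, map_mul]
    ring

omit hw in
theorem injective_of_basis
    (h : ∀ (W : Y.Opens), ∀ y ∈ W, ∃ D : Y.Opens, y ∈ D ∧ D ≤ W ∧ ExactOn p₁ p₂ q D) (W : Y.Opens) :
    Function.Injective (q.app W) := fun a b hab => by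
  choose D hyD hDW hD using h W
  refine TopCat.Sheaf.eq_of_locally_eq' Y.sheaf (fun y : W => D y.1 y.2) W
    (fun y => homOfLE (hDW _ y.2)) (fun y hy => Opens.mem_iSup.2 ⟨⟨y, hy⟩, hyD y hy⟩) a b fun y => ?_
  refine (hD _ y.2).inj ?_
  change q.app _ (Y.presheaf.map _ a) = q.app _ (Y.presheaf.map _ b)
  rw [app_res, app_res, hab]

/-- Exactness on a basis gives exactness everywhere. -/
theorem ExactOn.of_basis (h : ∀ (W : Y.Opens), ∀ y ∈ W, ∃ D : Y.Opens, y ∈ D ∧ D ≤ W ∧ ExactOn p₁ p₂ q D)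
    (W : Y.Opens) : ExactOn p₁ p₂ q W := by
  have hinj := injective_of_basis h
  choose D hyD hDW hD using h W
  have hcov : W ≤ ⨆ y : W, D y.1 y.2 := fun y hy => Opens.mem_iSup.2 ⟨⟨y, hy⟩, hyD y hy⟩
  have hcovX : q ⁻¹ᵁ W ≤ ⨆ y : W, q ⁻¹ᵁ D y.1 y.2 := fun x hx => Opens.mem_iSup.2 ⟨⟨q x, hx⟩, hyD _ hx⟩
  refine ⟨hinj W, fun T h₁ h₂ s hs => ?_⟩
  have hloc : ∀ y : W, ∃ t : Γ(Y, D y.1 y.2), q.app _ t = X.presheaf.map (homOfLE (q.preimage_mono (hDW _ y.2))).op s :=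
    fun y => (hD _ y.2).surj _ rfl (preimage_eq hw _) _ (by
      have hT : p₁ ⁻¹ᵁ q ⁻¹ᵁ D y.1 y.2 ≤ T := h₁ ▸ p₁.preimage_mono (q.preimage_mono (hDW _ y.2))
      rw [appLE_res p₁ _ hT h₁.le, appLE_res p₂ _ hT h₂.le, hs])
  choose t ht using hloc
  have hcompat : TopCat.Presheaf.IsCompatible Y.presheaf (fun y : W => D y.1 y.2) t := fun y y' => by
    refine hinj _ ?_
    change q.app _ (Y.presheaf.map (homOfLE inf_le_left).op (t y)) = q.app _ (Y.presheaf.map (homOfLE inf_le_right).op (t y'))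
    rw [app_res, app_res, ht, ht, ← CommRingCat.comp_apply, ← CommRingCat.comp_apply, ← Functor.map_comp,
      ← Functor.map_comp]
    rfl
  obtain ⟨t₀, ht₀, -⟩ := TopCat.Sheaf.existsUnique_gluing' Y.sheaf (fun y : W => D y.1 y.2) W
    (fun y => homOfLE (hDW _ y.2)) hcov t hcompat
  refine ⟨t₀, TopCat.Sheaf.eq_of_locally_eq' X.sheaf (fun y : W => q ⁻¹ᵁ D y.1 y.2) _
    (fun y => homOfLE (q.preimage_mono (hDW _ y.2))) hcovX _ _ fun y => ?_⟩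
  change X.presheaf.map _ (q.app W t₀) = X.presheaf.map _ s
  rw [← app_res (hDW _ y.2)]
  exact (congrArg (q.app _) (ht₀ y)).trans (ht y)

end Groth.Agent.RSQuot19
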