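import Groth.Agent.Lib.RSQuot19.Sep
import Groth.Agent.Lib.RSQuot19.Exact
import Groth.Agent.Lib.FEtEq25.Coeq

/-!
# The coequalizer of two integral schemes with finite fibres over a base
-/

universe u

set_option autoImplicit false
set_option linter.style.haveILetI false
set_option backward.isDefEq.respectTransparency.types false

open CategoryTheory CategoryTheory.Limits AlgebraicGeometry Opposite TopologicalSpace

namespace Groth.Agent.RSQuot19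

open Groth.Agent.FEtEq25 Groth.Agent.FEtEq25.PreAlg

variable {S X R : Scheme.{u}} {f : X ⟶ S} {g : R ⟶ S} [IsAffineHom f] [IsAffineHom g]
  {p₁ p₂ : R ⟶ X} (hp₁ : p₁ ≫ f = g) (hp₂ : p₂ ≫ f = g)

theorem str_app_eq (U : S.Opens) (a : Γ(S, U)) :
    (mapAlg f g p₁ hp₁).app (op U) (f.app U a) = g.app U a :=
  ConcreteCategory.congr_hom (NatTrans.congr_app (str_mapAlg f g p₁ hp₁) (op U)) a

/-- The equalizer algebra. -/
noncomputable abbrev eqA : PreAlg S := eqAlg p₁ p₂ hp₁ hp₂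

/-- The inclusion of the equalizer. -/
noncomputable abbrev incl : (eqA hp₁ hp₂).presheaf ⟶ (dirImage f).presheaf := eqIncl p₁ p₂ hp₁ hp₂

/-- The quotient map. -/
noncomputable abbrev toY : X ⟶ (eqA hp₁ hp₂).spec := proj p₁ p₂ hp₁ hp₂

theorem toY_π : toY hp₁ hp₂ ≫ (eqA hp₁ hp₂).π = f := proj_π ..

theorem toY_equalizes : p₁ ≫ toY hp₁ hp₂ = p₂ ≫ toY hp₁ hp₂ := comp_proj ..

/-- The map on sections over an open. -/
noncomputable abbrev mapU (m : R ⟶ X) (hm : m ≫ f = g) (U : S.Opens) : Γ(X, f ⁻¹ᵁ U) ⟶ Γ(R, g ⁻¹ᵁ U) :=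
  (mapAlg f g m hm).app (op U)

/-- The inclusion on sections over an open. -/
noncomputable abbrev inclU (U : S.Opens) : (eqA hp₁ hp₂).presheaf.obj (op U) ⟶ Γ(X, f ⁻¹ᵁ U) :=
  (incl hp₁ hp₂).app (op U)

theorem fromSpec_toY {U : S.Opens} (hU : IsAffineOpen U) :
    (hU.preimage f).fromSpec ≫ toY hp₁ hp₂ = Spec.map (inclU hp₁ hp₂ U) ≫ (eqA hp₁ hp₂).ι U hU :=
  (congrArg (· ≫ toY hp₁ hp₂) (ι_κ f U hU).symm).trans ((Category.assoc _ _ _).trans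
    ((congrArg ((dirImage f).ι U hU ≫ ·) (κ_proj ..)).trans (ι_specMap ..)))

theorem exactOn_preimage {U : S.Opens} (hU : IsAffineOpen U) :
    ExactOn p₁ p₂ (toY hp₁ hp₂) ((eqA hp₁ hp₂).π ⁻¹ᵁ U) := by
  have hq : toY hp₁ hp₂ ⁻¹ᵁ (eqA hp₁ hp₂).π ⁻¹ᵁ U = f ⁻¹ᵁ U := by
    rw [← Scheme.Hom.comp_preimage, toY_π]
  have hV : (eqA hp₁ hp₂).π ⁻¹ᵁ U = ((eqA hp₁ hp₂).ι U hU).opensRange := π_preimage _ U hU
  -- identify the sections
  let E := (eqA hp₁ hp₂).presheaf.obj (op U)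
  let ιU := (eqA hp₁ hp₂).ι U hU
  have htop : ⊤ ≤ ιU ⁻¹ᵁ (eqA hp₁ hp₂).π ⁻¹ᵁ U := by rw [hV, Scheme.Hom.preimage_opensRange]
  haveI := ιU.isIso_app _ hV.le
  let θ : Γ((eqA hp₁ hp₂).spec, (eqA hp₁ hp₂).π ⁻¹ᵁ U) ⟶ E := ιU.appLE _ ⊤ htop ≫ (Scheme.ΓSpecIso E).hom
  have hθ : Function.Bijective θ := by
    haveI : IsIso (ιU.appLE _ ⊤ htop) := by
      rw [Scheme.Hom.appLE]
      have : ((⊤ : (Spec E).Opens) = ιU ⁻¹ᵁ (eqA hp₁ hp₂).π ⁻¹ᵁ U) := le_antisymm htop le_top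
      rw [Subsingleton.elim (homOfLE htop) (eqToHom this), eqToHom_op]
      infer_instance
    exact (ConcreteCategory.isIso_iff_bijective θ).1 inferInstance
  let eX := (hU.preimage f).fromSpec
  have htopX : ⊤ ≤ eX ⁻¹ᵁ (toY hp₁ hp₂) ⁻¹ᵁ (eqA hp₁ hp₂).π ⁻¹ᵁ U := by
    rw [hq, IsAffineOpen.fromSpec_preimage_self]
  let φ : Γ(X, toY hp₁ hp₂ ⁻¹ᵁ (eqA hp₁ hp₂).π ⁻¹ᵁ U) ⟶ Γ(X, f ⁻¹ᵁ U) :=
    X.presheaf.map (homOfLE hq.ge).op
  have hφ : φ = eX.appLE _ ⊤ htopX ≫ (Scheme.ΓSpecIso _).hom := by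
    have hle : ⊤ ≤ eX ⁻¹ᵁ f ⁻¹ᵁ U := by rw [IsAffineOpen.fromSpec_preimage_self]
    have h₁ : eX.appLE (f ⁻¹ᵁ U) ⊤ hle = (Scheme.ΓSpecIso _).inv := by
      rw [Scheme.Hom.appLE, (hU.preimage f).fromSpec_app_self, Category.assoc, ← Functor.map_comp,
        Subsingleton.elim (_ ≫ (homOfLE hle).op) (𝟙 _), CategoryTheory.Functor.map_id, Category.comp_id]
    rw [show eX.appLE _ ⊤ htopX = X.presheaf.map (homOfLE hq.ge).op ≫ eX.appLE (f ⁻¹ᵁ U) ⊤ hle from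
      (Scheme.Hom.map_appLE _ _ _).symm, h₁, Category.assoc, Iso.inv_hom_id, Category.comp_id]
  have hcomm : (toY hp₁ hp₂).app ((eqA hp₁ hp₂).π ⁻¹ᵁ U) ≫ φ = θ ≫ inclU hp₁ hp₂ U := by
    rw [hφ, ← Category.assoc, Scheme.Hom.app_eq_appLE, Scheme.Hom.appLE_comp_appLE]
    have key : ∀ (g₁ : Spec Γ(X, f ⁻¹ᵁ U) ⟶ (eqA hp₁ hp₂).spec) (_ : g₁ = Spec.map (inclU hp₁ hp₂ U) ≫ ιU)
        (e : ⊤ ≤ g₁ ⁻¹ᵁ (eqA hp₁ hp₂).π ⁻¹ᵁ U),
        g₁.appLE _ ⊤ e ≫ (Scheme.ΓSpecIso _).hom = θ ≫ inclU hp₁ hp₂ U := by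
      rintro _ rfl e
      rw [← Scheme.Hom.appLE_comp_appLE (Spec.map (inclU hp₁ hp₂ U)) ιU _ ⊤ ⊤ htop le_top, Category.assoc,
        Category.assoc, ← Scheme.ΓSpecIso_naturality]
      congr 2
    exact key _ (fromSpec_toY hp₁ hp₂ hU) _
  have hφb : Function.Bijective φ := Function.bijective_iff_has_inverse.2
    ⟨X.presheaf.map (homOfLE hq.le).op, map_loop X.presheaf _ _, map_loop X.presheaf _ _⟩
  have hc : ∀ t, φ ((toY hp₁ hp₂).app _ t) = inclU hp₁ hp₂ U (θ t) := fun t => congr($hcomm t)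
  refine ⟨fun a b hab => hθ.1 (Subtype.ext ((hc a).symm.trans ((congrArg φ hab).trans (hc b)))),
    fun T h₁ h₂ s hs => ?_⟩
  have hTg : g ⁻¹ᵁ U = T := (congrArg (· ⁻¹ᵁ U) hp₁.symm).trans
    ((Scheme.Hom.comp_preimage ..).trans ((congrArg (p₁ ⁻¹ᵁ ·) hq.symm).trans h₁.symm))
  have hmem : φ s ∈ RingHom.eqLocus ((mapAlg f g p₁ hp₁).app (op U)).hom ((mapAlg f g p₂ hp₂).app (op U)).hom := by
    show p₁.appLE (f ⁻¹ᵁ U) (g ⁻¹ᵁ U) _ (X.presheaf.map (homOfLE hq.ge).op s) =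
      p₂.appLE (f ⁻¹ᵁ U) (g ⁻¹ᵁ U) _ (X.presheaf.map (homOfLE hq.ge).op s)
    rw [appLE_res p₁ hq.ge hTg.le h₁.le, appLE_res p₂ hq.ge hTg.le h₂.le, hs]
  obtain ⟨t, ht⟩ := hθ.2 ⟨φ s, hmem⟩
  exact ⟨t, hφb.1 ((hc t).trans (congrArg Subtype.val ht))⟩

theorem fromSpec_comp_map {U : S.Opens} (hU : IsAffineOpen U) (m : R ⟶ X) (hm : m ≫ f = g) :
    (hU.preimage g).fromSpec ≫ m = Spec.map (mapU m hm U) ≫ (hU.preimage f).fromSpec :=
  ((hU.preimage f).SpecMap_appLE_fromSpec m (hU.preimage g) _).symm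

include hp₁ hp₂ in
theorem main [IsIntegralHom f] [IsIntegralHom g]
    (hfin : ∀ s : ↥S, (f ⁻¹' {s}).Finite)
    (heqv : Equivalence (fun x x' : ↥X => ∃ r : ↥R, p₁ r = x ∧ p₂ r = x')) :
    ∃ (Y : Scheme.{u}) (q : X ⟶ Y) (h : Y ⟶ S)
      (w : (Scheme.forgetToLocallyRingedSpace ⋙ LocallyRingedSpace.forgetToSheafedSpace).map p₁ ≫ (Scheme.forgetToLocallyRingedSpace ⋙ LocallyRingedSpace.forgetToSheafedSpace).map q = (Scheme.forgetToLocallyRingedSpace ⋙ LocallyRingedSpace.forgetToSheafedSpace).map p₂ ≫ (Scheme.forgetToLocallyRingedSpace ⋙ LocallyRingedSpace.forgetToSheafedSpace).map q),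
      q ≫ h = f ∧ IsIntegralHom h ∧ IsIntegralHom q ∧
      Nonempty (IsColimit (Cofork.ofπ ((Scheme.forgetToLocallyRingedSpace ⋙ LocallyRingedSpace.forgetToSheafedSpace).map q) w)) := by
  let E := eqA hp₁ hp₂
  let q := toY hp₁ hp₂
  have hw := toY_equalizes hp₁ hp₂
  have hint : ∀ (U : S.Opens), IsAffineOpen U → (f.app U).hom.IsIntegral ∧ (g.app U).hom.IsIntegral := fun U hU =>
    ⟨f.isIntegral_app U hU, g.isIntegral_app U hU⟩
  haveI hπ : IsIntegralHom E.π := π_of_charts (A := E) (P := @IsIntegralHom) fun U hU => IsIntegralHom.SpecMap_iff.2 fun x => by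
    obtain ⟨P, hP, hPx⟩ := (hint U hU).1 x.1
    exact ⟨P, hP, Subtype.ext ((Polynomial.hom_eval₂ P _ (Subring.subtype _) x).trans hPx)⟩
  have hqπ : q ≫ E.π = f := toY_π hp₁ hp₂
  haveI : IsIntegralHom (q ≫ E.π) := by rw [hqπ]; infer_instance
  haveI hqi : IsIntegralHom q := IsIntegralHom.of_comp q E.π
  haveI : IsIntegralHom ((p₁ ≫ q) ≫ E.π) := by rw [Category.assoc, hqπ, hp₁]; infer_instance
  haveI : IsIntegralHom (p₁ ≫ q) := IsIntegralHom.of_comp _ E.π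
  have hcover : ∀ y : E.spec, ∃ (U : S.Opens) (hU : IsAffineOpen U) (P : Spec (E.presheaf.obj (op U))), E.ι U hU P = y :=
    fun y => by
      obtain ⟨U, hU, hyU, -⟩ := exists_isAffineOpen_mem_and_subset (X := S) (x := E.π y) (U := ⊤) trivial
      obtain ⟨P, hP⟩ : y ∈ (E.ι U hU).opensRange := by rw [← π_preimage]; exact hyU
      exact ⟨U, hU, P, hP⟩
  -- surjective
  have hsurj : Function.Surjective q.base := fun y => by
    obtain ⟨U, hU, P, rfl⟩ := hcover y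
    have hi : (inclU hp₁ hp₂ U).hom.IsIntegral := fun x => by
      obtain ⟨p, hp, hpx⟩ := (hint U hU).1 x
      exact ⟨p.map (E.str.app (op U)).hom, hp.map _, (Polynomial.eval₂_map ..).trans hpx⟩
    obtain ⟨Q, hQ⟩ := hi.comap_surjective Subtype.val_injective P
    refine ⟨(hU.preimage f).fromSpec Q, ?_⟩
    rw [← Scheme.Hom.comp_apply, fromSpec_toY hp₁ hp₂ hU, Scheme.Hom.comp_apply]
    exact congrArg _ hQ
  -- the fibres
  have hfib : ∀ x x', q x = q x' → ∃ r, p₁ r = x ∧ p₂ r = x' := fun x x' hxx' => by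
    obtain ⟨U, hU, hxU, -⟩ := exists_isAffineOpen_mem_and_subset (X := S) (x := f x) (U := ⊤) trivial
    have hx'U : f x' ∈ U := by
      rw [← hqπ, Scheme.Hom.comp_apply, ← hxx', ← Scheme.Hom.comp_apply, hqπ]
      exact hxU
    have hUf := hU.preimage f
    obtain ⟨P, rfl⟩ : x ∈ Set.range hUf.fromSpec := by rw [hUf.range_fromSpec]; exact hxU
    obtain ⟨Q, rfl⟩ : x' ∈ Set.range hUf.fromSpec := by rw [hUf.range_fromSpec]; exact hx'U
    rw [← Scheme.Hom.comp_apply, ← Scheme.Hom.comp_apply, fromSpec_toY hp₁ hp₂ hU, Scheme.Hom.comp_apply, Scheme.Hom.comp_apply] at hxx'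
    have hPQ := (E.ι U hU).isOpenEmbedding.injective hxx'
    letI := (f.app U).hom.toAlgebra
    letI := (g.app U).hom.toAlgebra
    haveI : Algebra.IsIntegral Γ(S, U) Γ(X, f ⁻¹ᵁ U) := ⟨(hint U hU).1⟩
    haveI : Algebra.IsIntegral Γ(S, U) Γ(R, g ⁻¹ᵁ U) := ⟨(hint U hU).2⟩
    let u : Γ(X, f ⁻¹ᵁ U) →ₐ[Γ(S, U)] Γ(R, g ⁻¹ᵁ U) :=
      { ((mapAlg f g p₁ hp₁).app (op U)).hom with commutes' := fun a => str_app_eq hp₁ U a }
    let v : Γ(X, f ⁻¹ᵁ U) →ₐ[Γ(S, U)] Γ(R, g ⁻¹ᵁ U) :=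
      { ((mapAlg f g p₂ hp₂).app (op U)).hom with commutes' := fun a => str_app_eq hp₂ U a }
    have hcomp : hUf.fromSpec ≫ f = Spec.map (f.app U) ≫ hU.fromSpec := by
      rw [Scheme.Hom.app_eq_appLE]
      exact (hU.SpecMap_appLE_fromSpec f hUf le_rfl).symm
    have hrel : ∀ (A B : Spec Γ(X, f ⁻¹ᵁ U)), (∃ r, p₁ r = hUf.fromSpec A ∧ p₂ r = hUf.fromSpec B) ↔
        ∃ W : Spec Γ(R, g ⁻¹ᵁ U), PrimeSpectrum.comap u.toRingHom W = A ∧ PrimeSpectrum.comap v.toRingHom W = B := fun A B => by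
      constructor
      · rintro ⟨r, h₁, h₂⟩
        have hr : g r ∈ U := by
          rw [← hp₁, Scheme.Hom.comp_apply, h₁]
          exact hUf.range_fromSpec.le ⟨A, rfl⟩
        obtain ⟨W, rfl⟩ : r ∈ Set.range (hU.preimage g).fromSpec := by rw [(hU.preimage g).range_fromSpec]; exact hr
        rw [← Scheme.Hom.comp_apply, fromSpec_comp_map hU p₁ hp₁, Scheme.Hom.comp_apply] at h₁
        rw [← Scheme.Hom.comp_apply, fromSpec_comp_map hU p₂ hp₂, Scheme.Hom.comp_apply] at h₂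
        exact ⟨W, hUf.fromSpec.isOpenEmbedding.injective h₁, hUf.fromSpec.isOpenEmbedding.injective h₂⟩
      · rintro ⟨W, rfl, rfl⟩
        refine ⟨(hU.preimage g).fromSpec W, ?_, ?_⟩ <;>
          [rw [← Scheme.Hom.comp_apply, fromSpec_comp_map hU p₁ hp₁]; rw [← Scheme.Hom.comp_apply, fromSpec_comp_map hU p₂ hp₂]] <;> rfl
    refine (hrel P Q).2 (exists_arrow_of_trace_eq u v (fun p => ?_) ⟨fun A => ?_, fun {A B} h => ?_, fun {A B C} h h' => ?_⟩ P Q ?_)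
    · by_cases hp : p.IsPrime
      · refine @Finite.of_injective _ _ (hfin (hU.fromSpec ⟨p, hp⟩)).to_subtype
          (fun A => (⟨hUf.fromSpec A.1, ?_⟩ : f ⁻¹' {hU.fromSpec ⟨p, hp⟩})) fun A A' e => by
          simp only [Subtype.mk.injEq] at e
          exact Subtype.ext (hUf.fromSpec.isOpenEmbedding.injective e)
        show f (hUf.fromSpec A.1) = _
        rw [← Scheme.Hom.comp_apply, hcomp, Scheme.Hom.comp_apply]
        exact congrArg _ (PrimeSpectrum.ext A.2)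
      · exact @Finite.of_subsingleton _ ⟨fun A => absurd (A.2 ▸ inferInstance) hp⟩
    · exact (hrel A A).1 (heqv.refl _)
    · exact (hrel B A).1 (heqv.symm ((hrel A B).2 h))
    · exact (hrel A C).1 (heqv.trans ((hrel A B).2 h) ((hrel B C).2 h'))
    · intro b hb
      exact SetLike.ext_iff.1 (congrArg PrimeSpectrum.asIdeal hPQ) ⟨b, hb⟩
  -- the sheaf
  have hex : ∀ W, ExactOn p₁ p₂ q W := ExactOn.of_basis hw fun W y hy => by
    obtain ⟨U, hU, hyU, -⟩ := exists_isAffineOpen_mem_and_subset (X := S) (x := E.π y) (U := ⊤) trivial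
    have hV : IsAffineOpen (E.π ⁻¹ᵁ U) := hU.preimage E.π
    obtain ⟨c, hc, hcy⟩ := hV.exists_basicOpen_le (V := W) ⟨y, hy⟩ hyU
    exact ⟨_, hcy, hc, (exactOn_preimage hp₁ hp₂ hU).basicOpen hw hV c⟩
  have w : (Scheme.forgetToLocallyRingedSpace ⋙ LocallyRingedSpace.forgetToSheafedSpace).map p₁ ≫ (Scheme.forgetToLocallyRingedSpace ⋙ LocallyRingedSpace.forgetToSheafedSpace).map q =
      (Scheme.forgetToLocallyRingedSpace ⋙ LocallyRingedSpace.forgetToSheafedSpace).map p₂ ≫ (Scheme.forgetToLocallyRingedSpace ⋙ LocallyRingedSpace.forgetToSheafedSpace).map q := by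
    rw [← Functor.map_comp, ← Functor.map_comp, hw]
  refine ⟨E.spec, q, E.π, w, hqπ, hπ, hqi, nonempty_isColimit w
    (q.isClosedMap.isQuotientMap q.continuous hsurj) hfib (fun W => (hex W).inj) fun W s e hs => ?_⟩
  refine (hex W).surj _ (preimage_eq hw W).symm rfl s ?_
  rw [← Scheme.Hom.app_eq_appLE]
  refine Eq.trans ?_ hs
  exact congrArg (fun j => (R.presheaf.map j) ((p₁.app (q ⁻¹ᵁ W)) s)) (Subsingleton.elim _ _)

end Groth.Agent.RSQuot19
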