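import Mathlib
import Groth.Agent.Lib.Hens.Colim
import Groth.Agent.Lib.Hens.PairOps
import Groth.Agent.Lib.EtGrpd19.Section

/-!
# Points with equal images in the spectrum of an equalizer

For two maps of algebras integral over a base with finite fibres whose induced relation on the
spectrum is an equivalence relation, two primes lie over the same prime of the equalizer only if
they are related.
-/

universe u

set_option autoImplicit false
set_option linter.style.haveILetI false

open TensorProduct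

attribute [local instance] Algebra.TensorProduct.rightAlgebra

namespace Groth.Agent.RSQuot19

open Groth.Agent.Hens Groth.Agent.EtGrpd19

variable {A : Type u} [CommRing A] (p : Ideal A) [p.IsPrime]

/-- The henselization at a prime. -/
abbrev Hp : Type u := Hs A p.ResidueField

theorem exists_approx (z : p.ResidueField) :
    ∃ a d : A, d ∉ p ∧ algebraMap A p.ResidueField d * z = algebraMap A p.ResidueField a := by
  obtain ⟨w, rfl⟩ := Ideal.Quotient.mk_surjective (I := IsLocalRing.maximalIdeal (Localization.AtPrime p)) z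
  obtain ⟨a, ⟨d, hd⟩, rfl⟩ := IsLocalization.exists_mk'_eq p.primeCompl w
  refine ⟨a, d, hd, ?_⟩
  have := congrArg (algebraMap (Localization.AtPrime p) p.ResidueField)
    (IsLocalization.mk'_spec' (Localization.AtPrime p) a (⟨d, hd⟩ : p.primeCompl))
  rw [map_mul, ← IsScalarTower.algebraMap_apply, ← IsScalarTower.algebraMap_apply] at this
  exact this

variable {B : Type u} [CommRing B] [Algebra A B]

/-- The ideal generated by the maximal ideal. -/
noncomputable def mT (B : Type u) [CommRing B] [Algebra A B] : Ideal (B ⊗[A] Hp p) :=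
  (IsLocalRing.maximalIdeal (Hp p)).map (algebraMap (Hp p) (B ⊗[A] Hp p))

theorem exists_clear (w : B ⊗[A] Hp p) :
    ∃ (d : A) (b : B), d ∉ p ∧ algebraMap A (B ⊗[A] Hp p) d * w - b ⊗ₜ 1 ∈ mT p B := by
  induction w using TensorProduct.induction_on with
  | zero => exact ⟨1, 0, fun h => (Ideal.ne_top_iff_one p).1 Ideal.IsPrime.ne_top' h, by simp⟩
  | tmul c x =>
    obtain ⟨a, d, hd, h⟩ := exists_approx p (Hs.res x)
    refine ⟨d, algebraMap A B a * c, hd, ?_⟩
    have hm : algebraMap A (Hp p) d * x - algebraMap A (Hp p) a ∈ IsLocalRing.maximalIdeal (Hp p) := by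
      rw [← Hs.res_eq_zero_iff, map_sub, map_mul, AlgHom.commutes, AlgHom.commutes, h, sub_self]
    have := Ideal.mul_mem_left (mT p B) (c ⊗ₜ[A] (1 : Hp p)) (Ideal.mem_map_of_mem (algebraMap (Hp p) (B ⊗[A] Hp p)) hm)
    rw [← Algebra.smul_def d (c ⊗ₜ[A] x), ← tmul_smul, Algebra.smul_def d x, ← Algebra.smul_def a c]
    rw [show algebraMap (Hp p) (B ⊗[A] Hp p) (algebraMap A (Hp p) d * x - algebraMap A (Hp p) a) =
      (1 : B) ⊗ₜ[A] (algebraMap A (Hp p) d * x - algebraMap A (Hp p) a) from rfl,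
      Algebra.TensorProduct.tmul_mul_tmul, mul_one, one_mul, tmul_sub] at this
    rwa [smul_tmul a c (1 : Hp p), ← Algebra.algebraMap_eq_smul_one]
  | add x y hx hy =>
    obtain ⟨d, b, hd, h⟩ := hx
    obtain ⟨d', b', hd', h'⟩ := hy
    refine ⟨d * d', algebraMap A B d' * b + algebraMap A B d * b', fun hh => (Ideal.IsPrime.mem_or_mem ‹_› hh).elim hd hd', ?_⟩
    have := add_mem (Ideal.mul_mem_left (mT p B) (algebraMap A _ d') h) (Ideal.mul_mem_left (mT p B) (algebraMap A _ d) h')
    convert this using 1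
    simp only [add_tmul, map_mul, mul_add, mul_sub]
    have e : ∀ (a : A) (b : B), algebraMap A (B ⊗[A] Hp p) a * (b ⊗ₜ 1) = (algebraMap A B a * b) ⊗ₜ 1 := fun a b => by
      rw [Algebra.TensorProduct.algebraMap_apply, Algebra.TensorProduct.tmul_mul_tmul, mul_one]
    rw [e, e]
    ring

/-- Two primes of the base change over the closed point with the same trace on `B` are equal. -/
theorem eq_of_comap_eq {M M' : Ideal (B ⊗[A] Hp p)} [M.IsPrime] [M'.IsPrime] (hM : mT p B ≤ M) (hM' : mT p B ≤ M')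
    (hp : M.comap (algebraMap A (B ⊗[A] Hp p)) = p) (hp' : M'.comap (algebraMap A (B ⊗[A] Hp p)) = p)
    (h : ∀ b : B, b ⊗ₜ[A] (1 : Hp p) ∈ M ↔ b ⊗ₜ[A] (1 : Hp p) ∈ M') : M = M' := by
  ext w
  obtain ⟨d, b, hd, hw⟩ := exists_clear p w
  have key : ∀ N : Ideal (B ⊗[A] Hp p), N.IsPrime → mT p B ≤ N →
      N.comap (algebraMap A (B ⊗[A] Hp p)) = p → (w ∈ N ↔ b ⊗ₜ[A] (1 : Hp p) ∈ N) := fun N hN hmN hpN => by
    constructor
    · intro hwN
      have := N.sub_mem (N.mul_mem_left (algebraMap A _ d) hwN) (hmN hw)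
      simpa using this
    · intro hb
      have := N.add_mem (hmN hw) hb
      rw [sub_add_cancel] at this
      exact (hN.mem_or_mem this).resolve_left fun hh => hd (hpN.le hh)
  rw [key M ‹_› hM hp, key M' ‹_› hM' hp', h]

/-- Evaluation at a prime over `p`. -/
theorem exists_evP (P : Ideal B) [P.IsPrime] (hP : P.comap (algebraMap A B) = p) :
    ∃ e : B ⊗[A] Hp p →ₐ[A] P.ResidueField, (∀ b, e (b ⊗ₜ 1) = algebraMap B P.ResidueField b) ∧
      mT p B ≤ RingHom.ker e ∧ (RingHom.ker e).comap (algebraMap A (B ⊗[A] Hp p)) = p := by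
  let ι₀ := Ideal.ResidueField.map p P (algebraMap A B) hP.symm
  let ι : p.ResidueField →ₐ[A] P.ResidueField :=
    { ι₀ with
      commutes' := fun a => by
        show ι₀ (algebraMap A _ a) = _
        rw [Ideal.ResidueField.map_algebraMap, ← IsScalarTower.algebraMap_apply] }
  refine ⟨Algebra.TensorProduct.lift (IsScalarTower.toAlgHom A B P.ResidueField) (ι.comp Hs.res) fun _ _ => .all _ _,
    fun b => by simp, Ideal.map_le_iff_le_comap.2 fun x hx => ?_, ?_⟩
  · show Algebra.TensorProduct.lift _ _ _ ((1 : B) ⊗ₜ[A] x) = 0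
    rw [Algebra.TensorProduct.lift_tmul, AlgHom.comp_apply, (Hs.res_eq_zero_iff x).2 hx, map_zero, mul_zero]
  · ext a
    rw [Ideal.mem_comap, RingHom.mem_ker, AlgHom.commutes, IsScalarTower.algebraMap_apply A B P.ResidueField,
      Ideal.algebraMap_residueField_eq_zero, ← hP, Ideal.mem_comap]

theorem isIntegral_T [Algebra.IsIntegral A B] : Algebra.IsIntegral (Hp p) (B ⊗[A] Hp p) := by
  refine ⟨fun z => ?_⟩
  induction z using TensorProduct.induction_on with
  | zero => exact isIntegral_zero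
  | tmul a d =>
    have h₁ : IsIntegral (Hp p) (a ⊗ₜ[A] (1 : Hp p)) :=
      ((Algebra.IsIntegral.isIntegral (R := A) a).map
        (Algebra.TensorProduct.includeLeft : B →ₐ[A] B ⊗[A] Hp p)).tower_top
    have h₂ : IsIntegral (Hp p) ((1 : B) ⊗ₜ[A] d) := isIntegral_algebraMap (R := Hp p) (x := d)
    simpa [Algebra.TensorProduct.tmul_mul_tmul] using h₁.mul h₂
  | add a b ha hb => exact ha.add hb

theorem comap_max : (IsLocalRing.maximalIdeal (Hp p)).comap (algebraMap A (Hp p)) = p := by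
  ext a
  rw [Ideal.mem_comap, ← Hs.res_eq_zero_iff, AlgHom.commutes, Ideal.algebraMap_residueField_eq_zero]

theorem maximal_over [Algebra.IsIntegral A B] (M : Ideal (B ⊗[A] Hp p)) [M.IsMaximal] :
    mT p B ≤ M ∧ M.comap (algebraMap A (B ⊗[A] Hp p)) = p := by
  have := isIntegral_T p (B := B)
  have h : M.comap (algebraMap (Hp p) (B ⊗[A] Hp p)) = IsLocalRing.maximalIdeal (Hp p) :=
    IsLocalRing.eq_maximalIdeal (Ideal.isMaximal_comap_of_isIntegral_of_isMaximal (R := Hp p) M)
  refine ⟨Ideal.map_le_iff_le_comap.2 h.ge, ?_⟩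
  rw [show algebraMap A (B ⊗[A] Hp p) = (algebraMap (Hp p) (B ⊗[A] Hp p)).comp (algebraMap A (Hp p)) from
    IsScalarTower.algebraMap_eq A (Hp p) _, ← Ideal.comap_comap, h, comap_max]

variable {B' : Type u} [CommRing B'] [Algebra A B']

set_option maxHeartbeats 1000000 in
/-- Primes with the same trace on the equalizer are related. -/
theorem exists_arrow_of_trace_eq [Algebra.IsIntegral A B] [Algebra.IsIntegral A B'] (u v : B →ₐ[A] B')
    (hfin : ∀ q : Ideal A, Finite {P : PrimeSpectrum B // P.asIdeal.comap (algebraMap A B) = q})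
    (heqv : Equivalence fun P Q : PrimeSpectrum B => ∃ W : PrimeSpectrum B',
      PrimeSpectrum.comap u.toRingHom W = P ∧ PrimeSpectrum.comap v.toRingHom W = Q)
    (P Q : PrimeSpectrum B)
    (h : ∀ b : B, u b = v b → (b ∈ P.asIdeal ↔ b ∈ Q.asIdeal)) :
    ∃ W : PrimeSpectrum B', PrimeSpectrum.comap u.toRingHom W = P ∧ PrimeSpectrum.comap v.toRingHom W = Q := by
  classical
  let rel := fun P Q : PrimeSpectrum B => ∃ W : PrimeSpectrum B',
      PrimeSpectrum.comap u.toRingHom W = P ∧ PrimeSpectrum.comap v.toRingHom W = Q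
  show rel P Q
  by_contra hPQ
  let p := P.asIdeal.comap (algebraMap A B)
  have hQp : Q.asIdeal.comap (algebraMap A B) = p := by
    ext a
    exact (h _ (by rw [AlgHom.commutes, AlgHom.commutes])).symm
  -- points of the closed fibre
  let F := {R : PrimeSpectrum B // R.asIdeal.comap (algebraMap A B) = p}
  have := hfin p
  have hev := fun R : F => exists_evP p R.1.asIdeal R.2
  choose ev hev₁ hev₂ hev₃ using hev
  have hTint := isIntegral_T p (B := B)
  have hmaxF : ∀ (M : Ideal (B ⊗[A] Hp p)) [M.IsPrime], mT p B ≤ M →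
      M.comap (algebraMap A (B ⊗[A] Hp p)) = p → ∀ R : F,
      (∀ b, b ∈ R.1.asIdeal ↔ b ⊗ₜ[A] (1 : Hp p) ∈ M) → M = RingHom.ker (ev R) := fun M _ h₁ h₂ R hR => by
    have : (RingHom.ker (ev R)).IsPrime := RingHom.ker_isPrime _
    exact eq_of_comap_eq p h₁ (hev₂ R) h₂ (hev₃ R) fun b => by
      rw [← hR b, RingHom.mem_ker, hev₁, Ideal.algebraMap_residueField_eq_zero]
  have hker : ∀ R : F, (RingHom.ker (ev R)).IsMaximal := fun R => by
    have : (RingHom.ker (ev R)).IsPrime := RingHom.ker_isPrime _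
    refine Ideal.isMaximal_of_isIntegral_of_isMaximal_comap (R := Hp p) _ ?_
    rw [(IsLocalRing.maximalIdeal.isMaximal _).eq_of_le (Ideal.IsPrime.ne_top (Ideal.comap_isPrime _ _))
      (Ideal.map_le_iff_le_comap.1 (hev₂ R)) |>.symm]
    infer_instance
  have hcop : Pairwise fun R R' : F => IsCoprime (RingHom.ker (ev R)) (RingHom.ker (ev R')) := fun R R' hne =>
    Ideal.isCoprime_iff_sup_eq.2 ((hker R).coprime_of_ne (hker R') fun e => hne (Subtype.ext (PrimeSpectrum.ext (by
      ext b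
      rw [← Ideal.algebraMap_residueField_eq_zero (I := R.1.asIdeal), ← hev₁, ← RingHom.mem_ker, e, RingHom.mem_ker,
        hev₁, Ideal.algebraMap_residueField_eq_zero]))))
  have := Fintype.ofFinite F
  obtain ⟨e₁, he₁⟩ := Ideal.exists_forall_sub_mem_ideal hcop fun R : F => if rel P R.1 then (1 : B ⊗[A] Hp p) else 0
  have he₁' : ∀ R : F, ev R e₁ = if rel P R.1 then 1 else 0 := fun R => by
    have := he₁ R
    rw [RingHom.mem_ker, map_sub, sub_eq_zero] at this
    rw [this]
    split_ifs <;> simp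
  -- the closed fibre in the jacobson radical
  have hens : HenselianRing (B ⊗[A] Hp p) (mT p B).radical :=
    henselianRing_radical (henselianRing_of_isIntegral (inferInstanceAs (HenselianRing (Hp p) (IsLocalRing.maximalIdeal (Hp p)))))
  have hrad : ∀ w, (∀ R, ev R w = 0) → w ∈ (mT p B).radical := fun w hw => by
    rw [Ideal.radical_eq_sInf, Ideal.mem_sInf]
    rintro M ⟨hM, hMp⟩
    have h₁ : M.comap (algebraMap (Hp p) (B ⊗[A] Hp p)) = IsLocalRing.maximalIdeal (Hp p) :=
      ((IsLocalRing.maximalIdeal.isMaximal _).eq_of_le (Ideal.IsPrime.ne_top (Ideal.comap_isPrime _ M))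
        (Ideal.map_le_iff_le_comap.1 hM)).symm
    have h₂ : M.comap (algebraMap A (B ⊗[A] Hp p)) = p := by
      rw [show algebraMap A (B ⊗[A] Hp p) = (algebraMap (Hp p) (B ⊗[A] Hp p)).comp (algebraMap A (Hp p)) from
        IsScalarTower.algebraMap_eq A (Hp p) _, ← Ideal.comap_comap, h₁, comap_max]
    let R : F := ⟨⟨M.comap (Algebra.TensorProduct.includeLeftRingHom : B →+* B ⊗[A] Hp p), inferInstance⟩, by
      ext a
      exact SetLike.ext_iff.1 h₂ a⟩
    rw [hmaxF M hM h₂ R fun b => Iff.rfl]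
    exact hw R
  obtain ⟨e, he, hee₁⟩ := exists_idempotent_lift hens (B := B ⊗[A] Hp p) e₁ (by
    rw [Algebra.algebraMap_self, Ideal.map_id]
    exact hrad _ fun R => by
      rw [map_sub, map_mul, he₁']
      split_ifs <;> simp)
  rw [Algebra.algebraMap_self, Ideal.map_id] at hee₁
  have hev : ∀ R : F, ev R e = if rel P R.1 then 1 else 0 := fun R => by
    rw [← he₁' R, ← sub_eq_zero, ← map_sub, ← RingHom.mem_ker]
    exact (Ideal.IsPrime.radical_le_iff (RingHom.ker_isPrime _)).2 (hev₂ R) hee₁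
  -- invariance
  have hinv : bD (Hp p) u e = bD (Hp p) v e := by
    refine idempotent_eq_of_sub_mem le_rfl (he.map _) (he.map _) (Ideal.mem_sInf.2 ?_)
    rintro M ⟨-, hM⟩
    obtain ⟨hmM, hpM⟩ := maximal_over p M
    let W : PrimeSpectrum B' := ⟨M.comap (Algebra.TensorProduct.includeLeftRingHom : B' →+* B' ⊗[A] Hp p), inferInstance⟩
    have hval : ∀ φ : B →ₐ[A] B', ∃ R : F, R.1 = PrimeSpectrum.comap φ.toRingHom W ∧
        (bD (Hp p) φ e ∈ M ↔ ev R e = 0) := fun φ => by
      let R : F := ⟨PrimeSpectrum.comap φ.toRingHom W, by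
        ext a
        show φ (algebraMap A B a) ⊗ₜ[A] (1 : Hp p) ∈ M ↔ _
        rw [AlgHom.commutes]
        exact SetLike.ext_iff.1 hpM a⟩
      refine ⟨R, rfl, ?_⟩
      have e1 : M.comap (bD (Hp p) φ).toRingHom = RingHom.ker (ev R) := hmaxF _
        (Ideal.map_le_iff_le_comap.2 fun x hx => by
          show bD (Hp p) φ ((1 : B) ⊗ₜ[A] x) ∈ M
          rw [Algebra.TensorProduct.map_tmul, map_one]
          exact hmM (Ideal.mem_map_of_mem (algebraMap (Hp p) (B' ⊗[A] Hp p)) hx))
        (by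
          ext a
          rw [Ideal.mem_comap, Ideal.mem_comap]
          show bD (Hp p) φ (algebraMap A _ a) ∈ M ↔ _
          rw [AlgHom.commutes, ← Ideal.mem_comap, hpM]) R (fun b => by
          show φ b ⊗ₜ[A] (1 : Hp p) ∈ M ↔ bD (Hp p) φ (b ⊗ₜ[A] (1 : Hp p)) ∈ M
          rw [Algebra.TensorProduct.map_tmul]
          rfl)
      exact SetLike.ext_iff.1 e1 e
    obtain ⟨R, hR, hRe⟩ := hval u
    obtain ⟨R', hR', hRe'⟩ := hval v
    have hRR' : rel R.1 R'.1 := ⟨W, hR.symm, hR'.symm⟩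
    have hiff : rel P R.1 ↔ rel P R'.1 :=
      ⟨fun h => heqv.trans h hRR', fun h => heqv.trans h (heqv.symm hRR')⟩
    rw [hev] at hRe hRe'
    have hzo : ∀ φ : B →ₐ[A] B', bD (Hp p) φ e ∉ M → bD (Hp p) φ e - 1 ∈ M := fun φ hφ =>
      (hM.isPrime.mem_or_mem (show bD (Hp p) φ e * (bD (Hp p) φ e - 1) ∈ M by
        rw [mul_sub, mul_one, (he.map _).eq, sub_self]; exact M.zero_mem)).resolve_left hφ
    by_cases hc : rel P R.1
    · rw [if_pos hc] at hRe
      rw [if_pos (hiff.1 hc)] at hRe'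
      simpa using M.sub_mem (hzo u fun h => one_ne_zero (hRe.1 h)) (hzo v fun h => one_ne_zero (hRe'.1 h))
    · rw [if_neg hc] at hRe
      rw [if_neg (hiff.not.1 hc)] at hRe'
      exact M.sub_mem (hRe.2 rfl) (hRe'.2 rfl)
  -- descend to the equalizer
  let C := AlgHom.equalizer u v
  rw [bD_eq_rTensor, bD_eq_rTensor] at hinv
  obtain ⟨y, hy⟩ := exists_eq_of_flat (Hp p) C.val.toLinearMap u.toLinearMap v.toLinearMap
    (fun b => ⟨fun hb => ⟨⟨b, hb⟩, rfl⟩, fun ⟨c, hc⟩ => hc ▸ c.2⟩) hinv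
  rw [← bD_eq_rTensor] at hy
  let c : Ideal C := P.asIdeal.comap C.val.toRingHom
  have hcQ : c = Q.asIdeal.comap C.val.toRingHom := by
    ext b
    exact h _ b.2
  have hcp : c.comap (algebraMap A C) = p := rfl
  obtain ⟨evc, hevc₁, hevc₂, hevc₃⟩ := exists_evP p c hcp
  have hkey : ∀ R : F, c = R.1.asIdeal.comap C.val.toRingHom → (ev R e = 0 ↔ evc y = 0) := fun R hR => by
    have hpr : (RingHom.ker (ev R)).IsPrime := RingHom.ker_isPrime _
    have : (RingHom.ker evc).IsPrime := RingHom.ker_isPrime _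
    have e2 : (RingHom.ker (ev R)).comap (bD (Hp p) C.val).toRingHom = RingHom.ker evc := by
      refine eq_of_comap_eq p (Ideal.map_le_iff_le_comap.2 fun x hx => ?_) hevc₂ ?_ hevc₃ fun b => ?_
      · show bD (Hp p) C.val ((1 : C) ⊗ₜ[A] x) ∈ RingHom.ker (ev R)
        rw [Algebra.TensorProduct.map_tmul, map_one]
        exact hev₂ R (Ideal.mem_map_of_mem (algebraMap (Hp p) (B ⊗[A] Hp p)) hx)
      · ext a
        show bD (Hp p) C.val (algebraMap A _ a) ∈ RingHom.ker (ev R) ↔ _
        rw [AlgHom.commutes, ← Ideal.mem_comap, hev₃]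
      · show bD (Hp p) C.val (b ⊗ₜ[A] (1 : Hp p)) ∈ RingHom.ker (ev R) ↔ _
        rw [Algebra.TensorProduct.map_tmul, AlgHom.id_apply, RingHom.mem_ker, RingHom.mem_ker, hev₁, hevc₁,
          Ideal.algebraMap_residueField_eq_zero, Ideal.algebraMap_residueField_eq_zero, hR]
        rfl
    rw [← hy, ← RingHom.mem_ker, ← RingHom.mem_ker, ← e2]
    rfl
  have hP := hkey ⟨P, rfl⟩ rfl
  have hQ := hkey ⟨Q, hQp⟩ hcQ
  rw [hev, if_pos (show rel P P from heqv.refl P)] at hP
  rw [hev, if_neg hPQ] at hQ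
  exact one_ne_zero (hP.2 (hQ.1 rfl))

end Groth.Agent.RSQuot19
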